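import Groth.Prelude.Def_SpSeq
import Mathlib

/-!
# Stationary positions of spectral sequences
-/

open CategoryTheory CategoryTheory.Limits
universe v u

namespace SpSeqStat

variable {C : Type u} [Category.{v} C] [Abelian C] {r₀ : ℤ} (E : CohomologicalSpectralSequence C r₀)

lemma page_succ_isZero (k : ℤ) (hk : r₀ ≤ k) (pq : ℤ × ℤ) (h : IsZero ((E.page k hk).X pq)) :
    IsZero ((E.page (k + 1) (by omega)).X pq) := by
  refine IsZero.of_iso ?_ (E.iso k (k + 1) pq rfl hk).symm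
  exact ((E.page k hk).exactAt_iff_isZero_homology pq).1 (ShortComplex.exact_of_isZero_X₂ _ h)

lemma page_isZero (r : ℤ) (hr : r₀ ≤ r) (pq : ℤ × ℤ) (h : IsZero ((E.page r hr).X pq)) (k : ℤ) (hk : r ≤ k) :
    IsZero ((E.page k (hr.trans hk)).X pq) := by
  induction k, hk using Int.le_induction with
  | base => exact h
  | succ k hk ih => exact page_succ_isZero E k _ pq ih

lemma step_iso {r : ℤ} {pq : ℤ × ℤ} (hst : SpSeq.StationaryAt E pq r) (k : ℤ) (hk₀ : r₀ ≤ k) (hk : r ≤ k) :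
    Nonempty ((E.page k hk₀).X pq ≅ (E.page (k + 1) (by omega)).X pq) := by
  obtain ⟨h1, h2⟩ := hst.2 k hk₀ hk
  have hd : ∀ i, (E.page k hk₀).d i pq = 0 := fun i => by
    by_cases hi : i + ((k, 1 - k) : ℤ × ℤ) = pq
    · have : i = pq - ((k, 1 - k) : ℤ × ℤ) := by rw [← hi, add_sub_cancel_right]
      rw [this]; exact h1
    · exact (E.page k hk₀).shape _ _ hi
  have hd' : ∀ i, (E.page k hk₀).d pq i = 0 := fun i => by
    by_cases hi : pq + ((k, 1 - k) : ℤ × ℤ) = i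
    · rw [← hi]; exact h2
    · exact (E.page k hk₀).shape _ _ hi
  exact ⟨((ShortComplex.LeftHomologyData.ofZeros ((E.page k hk₀).sc pq) (hd _) (hd' _)).homologyIso).symm ≪≫
    E.iso k (k + 1) pq rfl hk₀⟩

lemma iso_of_le {r : ℤ} {pq : ℤ × ℤ} (hst : SpSeq.StationaryAt E pq r) (k : ℤ) (hk : r ≤ k) :
    Nonempty ((E.page r hst.1).X pq ≅ (E.page k (hst.1.trans hk)).X pq) := by
  induction k, hk using Int.le_induction with
  | base => exact ⟨Iso.refl _⟩
  | succ k hk ih => exact ⟨ih.some ≪≫ (step_iso E hst k _ hk).some⟩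

lemma isZero_gr (r : ℤ) (hr : r₀ ≤ r) (pq : ℤ × ℤ) (h : IsZero ((E.page r hr).X pq)) (H : ℤ → C)
    (a : SpSeq.Abutment E H) :
    IsZero (SpSeq.grPiece (a.fil (pq.1 + pq.2)) (a.anti (pq.1 + pq.2)) pq.1) := by
  refine IsZero.of_iso ?_ (a.β pq).symm
  obtain ⟨e⟩ := iso_of_le E (a.stat pq) (max r (a.rk pq)) (le_max_right _ _)
  exact IsZero.of_iso (page_isZero E r hr pq h _ (le_max_left _ _)) e

end SpSeqStat
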